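import Cfsg.Agent.Lib.Cores.Basic

/-!
API for `fittingSubgroup`: largest normal nilpotent subgroup, join of the p-cores, behaviour
under maps, quotients and subgroups; `C(F) ≤ F` for solvable groups.
-/

set_option autoImplicit false

namespace Cfsg.Agent.Cores

open Cfsg

variable {G H : Type*} [Group G] [Group H]

theorem isNilpotent_map (N : Subgroup G) (f : G →* H) (h : Group.IsNilpotent N) :
    Group.IsNilpotent (N.map f) :=
  Group.nilpotent_of_surjective (f.subgroupMap N) (f.subgroupMap_surjective N)

theorem isNilpotent_to_le {K L : Subgroup G} (hKL : K ≤ L) (h : Group.IsNilpotent L) :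
    Group.IsNilpotent K :=
  Group.nilpotent_of_mulEquiv (Subgroup.subgroupOfEquivOfLe hKL)

theorem isNilpotent_subgroupOf {K : Subgroup G} (h : Group.IsNilpotent K) (L : Subgroup G) :
    Group.IsNilpotent (K.subgroupOf L) := by
  have h1 : Group.IsNilpotent ↥(K ⊓ L) := isNilpotent_to_le inf_le_left h
  rw [← Subgroup.subgroupOf_map_subtype] at h1
  exact Group.nilpotent_of_mulEquiv
    (Subgroup.equivMapOfInjective _ _ L.subtype_injective).symm

/-- A subgroup containing a Sylow subgroup for each prime is the whole group. -/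
theorem eq_top_of_sylow_le [Finite G] {K : Subgroup G}
    (h : ∀ p : ℕ, p.Prime → p ∣ Nat.card G → ∃ P : Sylow p G, (P : Subgroup G) ≤ K) : K = ⊤ := by
  refine Subgroup.eq_top_of_card_eq _ (Nat.dvd_antisymm K.card_subgroup_dvd_card ?_)
  rw [Nat.dvd_iff_prime_pow_dvd_dvd]
  intro p k hp hd
  haveI : Fact p.Prime := ⟨hp⟩
  rcases Nat.eq_zero_or_pos k with rfl | hk
  · simp
  · obtain ⟨P, hP⟩ := h p hp ((dvd_pow_self p hk.ne').trans hd)
    exact (P.pow_dvd_card_of_pow_dvd_card hd).trans (Subgroup.card_dvd_of_le hP)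

instance fittingSubgroup_normal : (fittingSubgroup G).Normal :=
  Subgroup.sSup_normal _ fun _ h => h.1

theorem le_fittingSubgroup {N : Subgroup G} [hN : N.Normal] (h : Group.IsNilpotent N) :
    N ≤ fittingSubgroup G :=
  le_sSup ⟨hN, h⟩

theorem fittingSubgroup_le {K : Subgroup G}
    (h : ∀ N : Subgroup G, N.Normal → Group.IsNilpotent N → N ≤ K) : fittingSubgroup G ≤ K :=
  sSup_le fun N hN => h N hN.1 hN.2

theorem pCore_le_fitting [Finite G] (p : ℕ) [Fact p.Prime] : pCore p G ≤ fittingSubgroup G :=
  le_fittingSubgroup (pCore_isPGroup p).isNilpotent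

theorem pCore_commute [Finite G] {p q : ℕ} [Fact p.Prime] [Fact q.Prime] (hne : p ≠ q)
    {x y : G} (hx : x ∈ pCore p G) (hy : y ∈ pCore q G) : Commute x y :=
  Subgroup.commute_of_normal_of_disjoint _ _ inferInstance inferInstance
    (IsPGroup.disjoint_of_ne p q hne _ _ (pCore_isPGroup p) (pCore_isPGroup q)) x y hx hy

theorem le_iSup_pCore [Finite G] (N : Subgroup G) [N.Normal] (h : Group.IsNilpotent N) :
    N ≤ ⨆ p : (Nat.card G).primeFactors, pCore (p : ℕ) G := by
  rw [← Subgroup.subgroupOf_eq_top]
  refine eq_top_of_sylow_le fun p hp hd => ?_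
  haveI : Fact p.Prime := ⟨hp⟩
  have hmem : p ∈ (Nat.card G).primeFactors :=
    hp.mem_primeFactors (hd.trans N.card_subgroup_dvd_card) Nat.card_pos.ne'
  obtain ⟨P⟩ : Nonempty (Sylow p N) := inferInstance
  refine ⟨P, fun x hx => ?_⟩
  rw [Subgroup.mem_subgroupOf]
  haveI : (P : Subgroup N).Characteristic := P.characteristic_of_normal inferInstance
  have h1 : (P : Subgroup N).map N.subtype ≤ pCore p G := le_pCore (P.isPGroup'.map N.subtype)
  exact (le_iSup (fun q : (Nat.card G).primeFactors => pCore (q : ℕ) G) ⟨p, hmem⟩)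
    (h1 (Subgroup.mem_map_of_mem N.subtype hx))

theorem fittingSubgroup_eq_iSup [Finite G] :
    fittingSubgroup G = ⨆ p : (Nat.card G).primeFactors, pCore (p : ℕ) G := by
  refine le_antisymm (fittingSubgroup_le fun N hN h => haveI := hN; le_iSup_pCore N h) ?_
  refine iSup_le fun p => ?_
  haveI : Fact (p : ℕ).Prime := ⟨Nat.prime_of_mem_primeFactors p.2⟩
  exact pCore_le_fitting _

/-- Fitting's theorem for finite groups. -/
theorem fittingSubgroup_isNilpotent [Finite G] : Group.IsNilpotent (fittingSubgroup G) := by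
  rw [fittingSubgroup_eq_iSup]
  let K : (Nat.card G).primeFactors → Subgroup G := fun p => pCore (p : ℕ) G
  haveI hn : ∀ p, Group.IsNilpotent (K p) := fun p =>
    haveI : Fact (p : ℕ).Prime := ⟨Nat.prime_of_mem_primeFactors p.2⟩
    (pCore_isPGroup _).isNilpotent
  have hcomm : Pairwise fun p q => ∀ x y : G, x ∈ K p → y ∈ K q → Commute x y := by
    intro p q hne x y hx hy
    haveI : Fact (p : ℕ).Prime := ⟨Nat.prime_of_mem_primeFactors p.2⟩
    haveI : Fact (q : ℕ).Prime := ⟨Nat.prime_of_mem_primeFactors q.2⟩
    exact pCore_commute (fun h => hne (Subtype.ext h)) hx hy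
  change Group.IsNilpotent ↥(⨆ p, K p)
  rw [← Subgroup.noncommPiCoprod_range (hcomm := hcomm)]
  exact Group.nilpotent_of_surjective _ (MonoidHom.rangeRestrict_surjective _)

theorem pCore_le_fittingSubgroup [Finite G] {p : ℕ} (hp : p.Prime) :
    pCore p G ≤ fittingSubgroup G :=
  haveI : Fact p.Prime := ⟨hp⟩
  pCore_le_fitting p

theorem map_fittingSubgroup_le {f : G →* H} (hf : Function.Surjective f) :
    (fittingSubgroup G).map f ≤ fittingSubgroup H :=
  Subgroup.map_le_iff_le_comap.2 <| fittingSubgroup_le fun N hN h =>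
    Subgroup.map_le_iff_le_comap.1 <| by
      haveI := hN.map f hf
      exact le_fittingSubgroup (isNilpotent_map N f h)

theorem map_fittingSubgroup_eq (e : G ≃* H) :
    (fittingSubgroup G).map e.toMonoidHom = fittingSubgroup H :=
  le_antisymm (map_fittingSubgroup_le e.surjective) fun x hx =>
    ⟨e.symm x, map_fittingSubgroup_le (f := e.symm.toMonoidHom) e.symm.surjective ⟨x, hx, rfl⟩,
      e.apply_symm_apply x⟩

instance fittingSubgroup_characteristic : (fittingSubgroup G).Characteristic :=
  Subgroup.characteristic_iff_map_le.2 fun φ => map_fittingSubgroup_le φ.surjective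

theorem fittingSubgroup_subgroupOf_le [Finite G] (K : Subgroup G) :
    (fittingSubgroup G).subgroupOf K ≤ fittingSubgroup K :=
  le_fittingSubgroup (isNilpotent_subgroupOf fittingSubgroup_isNilpotent K)

theorem map_fittingSubgroup_subtype_le [Finite G] (N : Subgroup G) [N.Normal] :
    (fittingSubgroup N).map N.subtype ≤ fittingSubgroup G :=
  le_fittingSubgroup (isNilpotent_map _ _ fittingSubgroup_isNilpotent)

theorem map_fittingSubgroup_subtype_eq_inf [Finite G] (N : Subgroup G) [N.Normal] :
    (fittingSubgroup N).map N.subtype = fittingSubgroup G ⊓ N := by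
  refine le_antisymm (le_inf (map_fittingSubgroup_subtype_le N) (Subgroup.map_subtype_le _)) ?_
  rw [← Subgroup.subgroupOf_map_subtype]
  exact Subgroup.map_mono (fittingSubgroup_subgroupOf_le N)

theorem fittingSubgroup_eq_top_iff [Finite G] : fittingSubgroup G = ⊤ ↔ Group.IsNilpotent G := by
  constructor
  · intro h
    have h1 := fittingSubgroup_isNilpotent (G := G)
    rw [h] at h1
    exact Group.isNilpotent_top.1 h1
  · intro h
    exact top_le_iff.1 (le_fittingSubgroup (Group.isNilpotent_top.2 h))

/-- A normal p-subgroup of `G` which lies in a nilpotent normal subgroup is in the p-core, and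
the Sylow subgroups of the Fitting subgroup are the p-cores. -/
theorem sylow_fitting_map [Finite G] {p : ℕ} [Fact p.Prime] (P : Sylow p (fittingSubgroup G)) :
    (P : Subgroup (fittingSubgroup G)).map (fittingSubgroup G).subtype = pCore p G := by
  haveI : Group.IsNilpotent (fittingSubgroup G) := fittingSubgroup_isNilpotent
  haveI : (P : Subgroup (fittingSubgroup G)).Characteristic :=
    P.characteristic_of_normal inferInstance
  refine le_antisymm (le_pCore (P.isPGroup'.map _)) ?_
  intro x hx
  refine ⟨⟨x, pCore_le_fitting p hx⟩, ?_, rfl⟩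
  exact IsPGroup.le_sylow_of_normal ((pCore_isPGroup p).comap_subtype) P
    (show (⟨x, pCore_le_fitting p hx⟩ : fittingSubgroup G) ∈
      (pCore p G).subgroupOf (fittingSubgroup G) from hx)

theorem fittingSubgroup_eq_bot_iff [Finite G] :
    fittingSubgroup G = ⊥ ↔ ∀ p : ℕ, p.Prime → pCore p G = ⊥ := by
  constructor
  · intro h p hp
    haveI : Fact p.Prime := ⟨hp⟩
    exact le_bot_iff.1 (h ▸ pCore_le_fitting p)
  · intro h
    rw [fittingSubgroup_eq_iSup, iSup_eq_bot]
    exact fun p => h p (Nat.prime_of_mem_primeFactors p.2)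

/-- In a solvable group the Fitting subgroup contains its centralizer. -/
theorem centralizer_fittingSubgroup_le [Group.IsSolvable G] :
    Subgroup.centralizer (fittingSubgroup G : Set G) ≤ fittingSubgroup G := by
  set F := fittingSubgroup G
  set C := Subgroup.centralizer (F : Set G)
  let D : ℕ → Subgroup G := fun k => (derivedSeries C k).map C.subtype
  have hDC : ∀ k, D k ≤ C := fun k => Subgroup.map_subtype_le _
  have hDn : ∀ k, (D k).Normal := fun k => inferInstance
  have hsucc : ∀ k, D (k + 1) = ⁅D k, D k⁆ := fun k => by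
    simp only [D, derivedSeries_succ]
    exact Subgroup.map_commutator _ _ _
  obtain ⟨n, hn⟩ := Group.IsSolvable.solvable (G := C)
  have hend : D n ≤ F := by simp [D, hn]
  have hstep : ∀ k, D (k + 1) ≤ F → D k ≤ F := by
    intro k hk
    haveI := hDn k
    refine le_fittingSubgroup (N := D k)
      (Subgroup.isNilpotent_of_lowerCentralSeries_eq_bot (n := 2) ?_)
    rw [Subgroup.lowerCentralSeries_succ, Subgroup.lowerCentralSeries_succ,
      Subgroup.lowerCentralSeries_zero, ← hsucc, Subgroup.commutator_comm,
      Subgroup.commutator_eq_bot_iff_le_centralizer]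
    exact (hDC k).trans (Subgroup.centralizer_le hk)
  have h0 : D 0 ≤ F := by
    suffices h : ∀ j, D (n - j) ≤ F by simpa using h n
    intro j
    induction j with
    | zero => simpa using hend
    | succ j ih =>
      rcases Nat.eq_zero_or_pos (n - j) with h | h
      · rwa [show n - (j + 1) = n - j by omega]
      · exact hstep _ (by rwa [show n - (j + 1) + 1 = n - j by omega])
  refine le_trans (le_of_eq ?_) h0
  simp [D, ← MonoidHom.range_eq_map]

theorem fittingSubgroup_ne_bot [Group.IsSolvable G] [Nontrivial G] :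
    fittingSubgroup G ≠ ⊥ := by
  intro h
  have h1 := centralizer_fittingSubgroup_le (G := G)
  rw [h, le_bot_iff] at h1
  have h2 : Subgroup.centralizer ((⊥ : Subgroup G) : Set G) = ⊤ := by
    rw [Subgroup.centralizer_eq_top_iff_subset]
    intro x hx
    rw [Subgroup.coe_bot, Set.mem_singleton_iff] at hx
    exact hx ▸ one_mem _
  exact bot_ne_top (h1.symm.trans h2)

end Cfsg.Agent.Cores
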