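import Mathlib
import Cfsg.Prelude.Def_Solvable
import Cfsg.Prelude.Def_CaseTheorems
import Cfsg.Prelude.Def_OddOrderLocal

/-!
API for `pCore`, `pPrimeCore`, `oddCore`, `piCore`.

Every core `X` comes with: `X_normal`, `X_characteristic`, `le_X` (largest), its defining property
(`pCore_isPGroup`, `pPrimeCore_card_coprime`, `piCore_isPi`, `oddCore_odd`), `map_X_le` (surjective
homomorphisms), `map_X_eq` (isomorphisms), `X_subgroupOf_le`, `map_X_subtype_eq_inf` (normal
subgroups), `map_mk'_X` and `X_quotient_self` (quotients).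
-/

set_option autoImplicit false

namespace Cfsg.Agent.Cores

open Cfsg

variable {G H : Type*} [Group G] [Group H]

/-! ### Generalities -/

/-- A normal subgroup mapped into another subgroup by characteristic restriction is normal. -/
theorem normal_map_subtype (N : Subgroup G) [N.Normal] (K : Subgroup N) [K.Characteristic] :
    (K.map N.subtype).Normal :=
  inferInstance

theorem card_sup_mul_card_inf (A B : Subgroup G) [B.Normal] :
    Nat.card ↥(A ⊔ B) * Nat.card ↥(A ⊓ B) = Nat.card A * Nat.card B := by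
  have h1 : Nat.card ↥(A ⊔ B) = Nat.card B * B.relIndex (A ⊔ B) := by
    rw [← Subgroup.relIndex_bot_left, ← Subgroup.relIndex_bot_left,
      Subgroup.relIndex_mul_relIndex ⊥ B (A ⊔ B) bot_le le_sup_right]
  have h2 : Nat.card A = Nat.card ↥(A ⊓ B) * B.relIndex A := by
    rw [← Subgroup.relIndex_bot_left, ← Subgroup.relIndex_bot_left,
      ← Subgroup.inf_relIndex_right B A, inf_comm B A,
      Subgroup.relIndex_mul_relIndex ⊥ (A ⊓ B) A bot_le inf_le_left]
  rw [h1, h2, Subgroup.relIndex_sup_right]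
  ring

theorem card_sup_dvd_mul (A B : Subgroup G) [B.Normal] :
    Nat.card ↥(A ⊔ B) ∣ Nat.card A * Nat.card B :=
  ⟨_, (card_sup_mul_card_inf A B).symm⟩

/-- For `B` normal, `|B : A ∩ B|` divides `|G : A|`. -/
theorem relIndex_dvd_index_right_normal [Finite G] (A B : Subgroup G) [B.Normal] :
    A.relIndex B ∣ A.index := by
  have h1 : Nat.card A * A.relIndex (A ⊔ B) = Nat.card ↥(A ⊔ B) := by
    rw [← Subgroup.relIndex_bot_left, ← Subgroup.relIndex_bot_left,
      Subgroup.relIndex_mul_relIndex ⊥ A (A ⊔ B) bot_le le_sup_left]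
  have h2 : Nat.card ↥(A ⊓ B) * A.relIndex B = Nat.card B := by
    rw [← Subgroup.relIndex_bot_left, ← Subgroup.relIndex_bot_left,
      ← Subgroup.inf_relIndex_right A B,
      Subgroup.relIndex_mul_relIndex ⊥ (A ⊓ B) B bot_le inf_le_right]
  have h3 : A.relIndex B = A.relIndex (A ⊔ B) := by
    refine mul_left_cancel₀ (a := Nat.card A * Nat.card ↥(A ⊓ B))
      (mul_ne_zero Nat.card_pos.ne' Nat.card_pos.ne') ?_
    calc Nat.card A * Nat.card ↥(A ⊓ B) * A.relIndex B = Nat.card A * Nat.card B := by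
          rw [mul_assoc, h2]
      _ = Nat.card ↥(A ⊔ B) * Nat.card ↥(A ⊓ B) := (card_sup_mul_card_inf A B).symm
      _ = _ := by rw [← h1]; ring
  rw [h3]
  exact Dvd.intro _ (Subgroup.relIndex_mul_index le_sup_left)

theorem card_comap_mk' [Finite G] (N : Subgroup G) [N.Normal] (K : Subgroup (G ⧸ N)) :
    Nat.card ↥(K.comap (QuotientGroup.mk' N)) = Nat.card N * Nat.card K := by
  have h1 := (K.comap (QuotientGroup.mk' N)).card_mul_index
  rw [Subgroup.index_comap_of_surjective _ (QuotientGroup.mk'_surjective N),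
    Subgroup.card_eq_card_quotient_mul_card_subgroup N, ← K.card_mul_index] at h1
  have h2 : K.index ≠ 0 := Subgroup.index_ne_zero_of_finite
  apply mul_right_cancel₀ h2
  rw [h1]
  ring

/-- The join of all normal subgroups with a property closed under binary joins has the property. -/
theorem sSup_normal_mem [Finite G] {P : Subgroup G → Prop} (hbot : P ⊥)
    (hsup : ∀ A B : Subgroup G, A.Normal → B.Normal → P A → P B → P (A ⊔ B)) :
    P (sSup {N : Subgroup G | N.Normal ∧ P N}) := by
  have hfin : {N : Subgroup G | N.Normal ∧ P N}.Finite := Set.toFinite _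
  have key : ∀ s : Set (Subgroup G), s.Finite → s ⊆ {N | N.Normal ∧ P N} →
      (sSup s).Normal ∧ P (sSup s) := by
    intro s hs
    refine Set.Finite.induction_on _ hs ?_ ?_
    · intro _
      rw [sSup_empty]
      exact ⟨inferInstance, hbot⟩
    · intro a t _ _ ih hsub
      obtain ⟨ha, hPa⟩ := hsub (Set.mem_insert a t)
      obtain ⟨ht, hPt⟩ := ih ((Set.subset_insert a t).trans hsub)
      rw [sSup_insert]
      haveI := ha
      haveI := ht
      exact ⟨inferInstance, hsup a (sSup t) ha ht hPa hPt⟩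
  exact (key _ hfin subset_rfl).2

/-- All prime divisors of `|K|` lie in `π`. -/
def IsPi (π : Set ℕ) (K : Subgroup G) : Prop :=
  ∀ p : ℕ, p.Prime → p ∣ Nat.card K → p ∈ π

theorem isPi_bot (π : Set ℕ) : IsPi π (⊥ : Subgroup G) := by
  intro p hp hd
  rw [Subgroup.card_bot, Nat.dvd_one] at hd
  exact absurd hd hp.ne_one

theorem IsPi.mono {π π' : Set ℕ} {K : Subgroup G} (h : IsPi π K) (hππ : π ⊆ π') : IsPi π' K :=
  fun p hp hd => hππ (h p hp hd)

theorem IsPi.to_le {π : Set ℕ} {K L : Subgroup G} (h : IsPi π L) (hKL : K ≤ L) : IsPi π K :=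
  fun p hp hd => h p hp (hd.trans (Subgroup.card_dvd_of_le hKL))

theorem IsPi.map {π : Set ℕ} {K : Subgroup G} (h : IsPi π K) (f : G →* H) : IsPi π (K.map f) :=
  fun p hp hd => h p hp (hd.trans (K.card_map_dvd f))

theorem IsPi.subgroupOf {π : Set ℕ} {K : Subgroup G} (h : IsPi π K) (L : Subgroup G) :
    IsPi π (K.subgroupOf L) := by
  intro p hp hd
  refine h p hp (hd.trans ?_)
  rw [← Subgroup.card_map_of_injective L.subtype_injective, Subgroup.subgroupOf_map_subtype]
  exact Subgroup.card_dvd_of_le inf_le_left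

theorem IsPi.sup {π : Set ℕ} {A B : Subgroup G} [B.Normal] (hA : IsPi π A) (hB : IsPi π B) :
    IsPi π (A ⊔ B) := fun p hp hd =>
  (hp.dvd_mul.1 (hd.trans (card_sup_dvd_mul A B))).elim (hA p hp) (hB p hp)

theorem isPi_comap_mk' [Finite G] {π : Set ℕ} {N : Subgroup G} [N.Normal] {K : Subgroup (G ⧸ N)}
    (hN : IsPi π N) (hK : IsPi π K) : IsPi π (K.comap (QuotientGroup.mk' N)) := by
  intro p hp hd
  rw [card_comap_mk'] at hd
  exact (hp.dvd_mul.1 hd).elim (hN p hp) (hK p hp)

theorem isPi_iff_isPGroup [Finite G] {p : ℕ} [Fact p.Prime] (K : Subgroup G) :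
    IsPi {p} K ↔ IsPGroup p K := by
  constructor
  · intro h
    rw [IsPGroup.iff_card]
    exact ⟨_, Nat.eq_prime_pow_of_unique_prime_dvd Nat.card_pos.ne'
      (fun {d} hd hdvd => h d hd hdvd)⟩
  · intro h q hq hd
    obtain ⟨n, hn⟩ := IsPGroup.iff_card.1 h
    rw [hn] at hd
    exact (Nat.prime_dvd_prime_iff_eq hq (Fact.out : p.Prime)).1 (hq.dvd_of_dvd_pow hd)

theorem isPi_iff_coprime (p : ℕ) [hp : Fact p.Prime] (K : Subgroup G) :
    IsPi {p}ᶜ K ↔ (Nat.card K).Coprime p := by
  rw [Nat.coprime_comm, hp.out.coprime_iff_not_dvd]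
  constructor
  · intro h hd
    exact h p hp.out hd rfl
  · intro h q _ hd hqp
    exact h (Set.mem_singleton_iff.1 hqp ▸ hd)

/-! ### The p-core -/

instance pCore_normal (p : ℕ) : (pCore p G).Normal :=
  Subgroup.sSup_normal _ fun _ h => h.1

theorem le_pCore {p : ℕ} {N : Subgroup G} [hN : N.Normal] (h : IsPGroup p N) : N ≤ pCore p G :=
  le_sSup ⟨hN, h⟩

theorem pCore_le {p : ℕ} {K : Subgroup G}
    (h : ∀ N : Subgroup G, N.Normal → IsPGroup p N → N ≤ K) : pCore p G ≤ K :=
  sSup_le fun N hN => h N hN.1 hN.2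

theorem pCore_isPGroup [Finite G] (p : ℕ) : IsPGroup p (pCore p G) :=
  sSup_normal_mem (P := fun K : Subgroup G => IsPGroup p K) IsPGroup.of_bot fun A B _ _ hA hB =>
    IsPGroup.to_sup_of_normal_right hA hB

theorem map_pCore_le {f : G →* H} (hf : Function.Surjective f) (p : ℕ) :
    (pCore p G).map f ≤ pCore p H :=
  Subgroup.map_le_iff_le_comap.2 <| pCore_le fun N hN h => Subgroup.map_le_iff_le_comap.1 <| by
    haveI := hN.map f hf
    exact le_pCore (h.map f)

theorem map_pCore_eq (e : G ≃* H) (p : ℕ) : (pCore p G).map e.toMonoidHom = pCore p H := by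
  refine le_antisymm (map_pCore_le e.surjective p) ?_
  exact fun x hx => ⟨e.symm x, map_pCore_le (f := e.symm.toMonoidHom) e.symm.surjective p ⟨x, hx, rfl⟩,
    e.apply_symm_apply x⟩

instance pCore_characteristic (p : ℕ) : (pCore p G).Characteristic :=
  Subgroup.characteristic_iff_map_le.2 fun φ => map_pCore_le φ.surjective p

theorem pCore_subgroupOf_le [Finite G] (p : ℕ) (K : Subgroup G) :
    (pCore p G).subgroupOf K ≤ pCore p K :=
  le_pCore (pCore_isPGroup p).comap_subtype

theorem map_pCore_subtype_le (p : ℕ) (N : Subgroup G) [Finite G] [N.Normal] :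
    (pCore p N).map N.subtype ≤ pCore p G :=
  le_pCore ((pCore_isPGroup p).map _)

theorem map_pCore_subtype_eq_inf [Finite G] (p : ℕ) (N : Subgroup G) [N.Normal] :
    (pCore p N).map N.subtype = pCore p G ⊓ N := by
  refine le_antisymm (le_inf (map_pCore_subtype_le p N) (Subgroup.map_subtype_le _)) ?_
  rw [← Subgroup.subgroupOf_map_subtype]
  exact Subgroup.map_mono (pCore_subgroupOf_le p N)

theorem pCore_le_sylow [Finite G] {p : ℕ} (P : Sylow p G) : pCore p G ≤ P :=
  IsPGroup.le_sylow_of_normal (pCore_isPGroup p) P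

theorem pCore_eq_top_iff [Finite G] (p : ℕ) : pCore p G = ⊤ ↔ IsPGroup p G := by
  constructor
  · intro h
    exact (h ▸ pCore_isPGroup (G := G) p).of_equiv Subgroup.topEquiv
  · intro h
    exact top_le_iff.1 (le_pCore (h.to_subgroup ⊤))

theorem map_mk'_pCore [Finite G] {p : ℕ} (N : Subgroup G) [N.Normal] (h : IsPGroup p N) :
    (pCore p G).map (QuotientGroup.mk' N) = pCore p (G ⧸ N) := by
  refine le_antisymm (map_pCore_le (QuotientGroup.mk'_surjective N) p) ?_
  rw [← Subgroup.map_comap_eq_self_of_surjective (QuotientGroup.mk'_surjective N) (pCore p (G ⧸ N))]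
  exact Subgroup.map_mono (le_pCore ((pCore_isPGroup p).comap_of_ker_isPGroup _
    (by rwa [QuotientGroup.ker_mk'])))

theorem pCore_quotient_self [Finite G] (p : ℕ) : pCore p (G ⧸ pCore p G) = ⊥ := by
  rw [← map_mk'_pCore _ (pCore_isPGroup p), QuotientGroup.map_mk'_self]

theorem pCore_eq_piCore [Finite G] (p : ℕ) [Fact p.Prime] : pCore p G = piCore {p} G := by
  refine le_antisymm (pCore_le fun N hN h => le_sSup ⟨hN, (isPi_iff_isPGroup N).2 h⟩) ?_
  exact sSup_le fun N hN => by
    haveI := hN.1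
    exact le_pCore ((isPi_iff_isPGroup N).1 hN.2)

/-! ### The π-core -/

theorem le_piCore {π : Set ℕ} {N : Subgroup G} [hN : N.Normal] (h : IsPi π N) :
    N ≤ piCore π G :=
  le_sSup ⟨hN, h⟩

theorem piCore_le {π : Set ℕ} {K : Subgroup G}
    (h : ∀ N : Subgroup G, N.Normal → IsPi π N → N ≤ K) : piCore π G ≤ K :=
  sSup_le fun N hN => h N hN.1 hN.2

theorem piCore_isPi [Finite G] (π : Set ℕ) : IsPi π (piCore π G) :=
  sSup_normal_mem (P := IsPi π) (isPi_bot π) fun _ _ _ hB hA' hB' =>
    haveI := hB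
    hA'.sup hB'

theorem map_piCore_le {f : G →* H} (hf : Function.Surjective f) (π : Set ℕ) :
    (piCore π G).map f ≤ piCore π H :=
  Subgroup.map_le_iff_le_comap.2 <| piCore_le fun N hN h => Subgroup.map_le_iff_le_comap.1 <| by
    haveI := hN.map f hf
    exact le_piCore (h.map f)

theorem map_piCore_eq (e : G ≃* H) (π : Set ℕ) : (piCore π G).map e.toMonoidHom = piCore π H := by
  refine le_antisymm (map_piCore_le e.surjective π) ?_
  exact fun x hx => ⟨e.symm x, map_piCore_le (f := e.symm.toMonoidHom) e.symm.surjective π ⟨x, hx, rfl⟩,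
    e.apply_symm_apply x⟩

instance piCore_characteristic (π : Set ℕ) : (piCore π G).Characteristic :=
  Subgroup.characteristic_iff_map_le.2 fun φ => map_piCore_le φ.surjective π

theorem piCore_subgroupOf_le [Finite G] (π : Set ℕ) (K : Subgroup G) :
    (piCore π G).subgroupOf K ≤ piCore π K :=
  le_piCore ((piCore_isPi π).subgroupOf K)

theorem map_piCore_subtype_le [Finite G] (π : Set ℕ) (N : Subgroup G) [N.Normal] :
    (piCore π N).map N.subtype ≤ piCore π G :=
  le_piCore ((piCore_isPi π).map _)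

theorem map_piCore_subtype_eq_inf [Finite G] (π : Set ℕ) (N : Subgroup G) [N.Normal] :
    (piCore π N).map N.subtype = piCore π G ⊓ N := by
  refine le_antisymm (le_inf (map_piCore_subtype_le π N) (Subgroup.map_subtype_le _)) ?_
  rw [← Subgroup.subgroupOf_map_subtype]
  exact Subgroup.map_mono (piCore_subgroupOf_le π N)

theorem map_mk'_piCore [Finite G] {π : Set ℕ} (N : Subgroup G) [N.Normal] (h : IsPi π N) :
    (piCore π G).map (QuotientGroup.mk' N) = piCore π (G ⧸ N) := by
  refine le_antisymm (map_piCore_le (QuotientGroup.mk'_surjective N) π) ?_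
  rw [← Subgroup.map_comap_eq_self_of_surjective (QuotientGroup.mk'_surjective N) (piCore π (G ⧸ N))]
  exact Subgroup.map_mono (le_piCore (isPi_comap_mk' h (piCore_isPi π)))

theorem piCore_quotient_self [Finite G] (π : Set ℕ) : piCore π (G ⧸ piCore π G) = ⊥ := by
  rw [← map_mk'_piCore _ (piCore_isPi π), QuotientGroup.map_mk'_self]

theorem piCore_mono {π π' : Set ℕ} (h : π ⊆ π') : piCore π G ≤ piCore π' G :=
  piCore_le fun N hN hπ => haveI := hN; le_piCore (hπ.mono h)

/-! ### The p'-core and the odd core -/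

instance pPrimeCore_normal (p : ℕ) : (pPrimeCore p G).Normal :=
  Subgroup.sSup_normal _ fun _ h => h.1

theorem le_pPrimeCore {p : ℕ} {N : Subgroup G} [hN : N.Normal] (h : (Nat.card N).Coprime p) :
    N ≤ pPrimeCore p G :=
  le_sSup ⟨hN, h⟩

theorem pPrimeCore_le {p : ℕ} {K : Subgroup G}
    (h : ∀ N : Subgroup G, N.Normal → (Nat.card N).Coprime p → N ≤ K) : pPrimeCore p G ≤ K :=
  sSup_le fun N hN => h N hN.1 hN.2

theorem pPrimeCore_card_coprime [Finite G] (p : ℕ) : (Nat.card (pPrimeCore p G)).Coprime p :=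
  sSup_normal_mem (P := fun K : Subgroup G => (Nat.card K).Coprime p)
    (by simp) fun A B _ hB hA' hB' =>
      haveI := hB
      (hA'.mul_left hB').coprime_dvd_left (card_sup_dvd_mul A B)

theorem pPrimeCore_not_dvd [Finite G] (p : ℕ) [hp : Fact p.Prime] :
    ¬ p ∣ Nat.card (pPrimeCore p G) :=
  hp.out.coprime_iff_not_dvd.1 (pPrimeCore_card_coprime p).symm

theorem map_pPrimeCore_le {f : G →* H} (hf : Function.Surjective f) (p : ℕ) :
    (pPrimeCore p G).map f ≤ pPrimeCore p H :=
  Subgroup.map_le_iff_le_comap.2 <| pPrimeCore_le fun N hN h => Subgroup.map_le_iff_le_comap.1 <| by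
    haveI := hN.map f hf
    exact le_pPrimeCore (h.coprime_dvd_left (N.card_map_dvd f))

theorem map_pPrimeCore_eq (e : G ≃* H) (p : ℕ) :
    (pPrimeCore p G).map e.toMonoidHom = pPrimeCore p H := by
  refine le_antisymm (map_pPrimeCore_le e.surjective p) ?_
  exact fun x hx => ⟨e.symm x, map_pPrimeCore_le (f := e.symm.toMonoidHom) e.symm.surjective p ⟨x, hx, rfl⟩,
    e.apply_symm_apply x⟩

instance pPrimeCore_characteristic (p : ℕ) : (pPrimeCore p G).Characteristic :=
  Subgroup.characteristic_iff_map_le.2 fun φ => map_pPrimeCore_le φ.surjective p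

theorem pPrimeCore_subgroupOf_le [Finite G] (p : ℕ) (K : Subgroup G) :
    (pPrimeCore p G).subgroupOf K ≤ pPrimeCore p K := by
  refine le_pPrimeCore ((pPrimeCore_card_coprime (G := G) p).coprime_dvd_left ?_)
  rw [← Subgroup.card_map_of_injective K.subtype_injective, Subgroup.subgroupOf_map_subtype]
  exact Subgroup.card_dvd_of_le inf_le_left

theorem map_pPrimeCore_subtype_le [Finite G] (p : ℕ) (N : Subgroup G) [N.Normal] :
    (pPrimeCore p N).map N.subtype ≤ pPrimeCore p G :=
  le_pPrimeCore ((pPrimeCore_card_coprime p).coprime_dvd_left (Subgroup.card_map_dvd _ _))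

theorem map_pPrimeCore_subtype_eq_inf [Finite G] (p : ℕ) (N : Subgroup G) [N.Normal] :
    (pPrimeCore p N).map N.subtype = pPrimeCore p G ⊓ N := by
  refine le_antisymm (le_inf (map_pPrimeCore_subtype_le p N) (Subgroup.map_subtype_le _)) ?_
  rw [← Subgroup.subgroupOf_map_subtype]
  exact Subgroup.map_mono (pPrimeCore_subgroupOf_le p N)

theorem map_mk'_pPrimeCore [Finite G] {p : ℕ} (N : Subgroup G) [N.Normal]
    (h : (Nat.card N).Coprime p) :
    (pPrimeCore p G).map (QuotientGroup.mk' N) = pPrimeCore p (G ⧸ N) := by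
  refine le_antisymm (map_pPrimeCore_le (QuotientGroup.mk'_surjective N) p) ?_
  rw [← Subgroup.map_comap_eq_self_of_surjective (QuotientGroup.mk'_surjective N)
    (pPrimeCore p (G ⧸ N))]
  refine Subgroup.map_mono (le_pPrimeCore ?_)
  rw [card_comap_mk']
  exact h.mul_left (pPrimeCore_card_coprime p)

theorem pPrimeCore_quotient_self [Finite G] (p : ℕ) : pPrimeCore p (G ⧸ pPrimeCore p G) = ⊥ := by
  rw [← map_mk'_pPrimeCore _ (pPrimeCore_card_coprime p), QuotientGroup.map_mk'_self]

theorem pPrimeCore_eq_piCore (p : ℕ) [Fact p.Prime] : pPrimeCore p G = piCore {p}ᶜ G := by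
  refine le_antisymm (pPrimeCore_le fun N hN h => le_sSup ⟨hN, (isPi_iff_coprime p N).2 h⟩) ?_
  exact sSup_le fun N hN => by
    haveI := hN.1
    exact le_pPrimeCore ((isPi_iff_coprime p N).1 hN.2)

theorem pCore_inf_pPrimeCore [Finite G] (p : ℕ) [hp : Fact p.Prime] :
    pCore p G ⊓ pPrimeCore p G = ⊥ := by
  obtain ⟨n, hn⟩ := IsPGroup.iff_card.1 (pCore_isPGroup (G := G) p)
  refine disjoint_iff.1 (Subgroup.disjoint_of_coprime_natCard ?_)
  rw [hn]
  exact ((pPrimeCore_card_coprime p).symm).pow_left n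

theorem oddCore_odd [Finite G] : Odd (Nat.card (oddCore G)) :=
  Nat.coprime_two_right.1 (pPrimeCore_card_coprime 2)

theorem le_oddCore {N : Subgroup G} [N.Normal] (h : Odd (Nat.card N)) : N ≤ oddCore G :=
  le_pPrimeCore (Nat.coprime_two_right.2 h)

end Cfsg.Agent.Cores
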