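import Mathlib

/-!
Small facts about nilpotent groups.
-/

set_option autoImplicit false

namespace Cfsg.Agent.Cores

open scoped commutatorElement

variable {G : Type*} [Group G]

/-- A nontrivial normal subgroup of a nilpotent group meets the centre nontrivially. -/
theorem inf_center_ne_bot [Group.IsNilpotent G] {N : Subgroup G} [N.Normal] (hN : N ≠ ⊥) :
    N ⊓ Subgroup.center G ≠ ⊥ := by
  intro h
  obtain ⟨n, hn⟩ := Group.IsNilpotent.nilpotent (G := G)
  suffices hk : ∀ k, N ⊓ Subgroup.upperCentralSeries G k = ⊥ by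
    exact hN (by simpa [hn] using hk n)
  intro k
  induction k with
  | zero => simp
  | succ k ih =>
    refine le_bot_iff.1 fun x hx => ?_
    have hc : x ∈ Subgroup.center G := by
      rw [Subgroup.mem_center_iff]
      intro g
      have h1 : ⁅x, g⁆ ∈ N ⊓ Subgroup.upperCentralSeries G k := by
        refine ⟨?_, Subgroup.mem_upperCentralSeries_succ_iff.1 hx.2 g⟩
        rw [commutatorElement_def, mul_assoc, mul_assoc]
        refine N.mul_mem hx.1 ?_
        rw [← mul_assoc]
        exact Subgroup.Normal.conj_mem inferInstance _ (N.inv_mem hx.1) g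
      rw [ih, Subgroup.mem_bot, commutatorElement_eq_one_iff_mul_comm] at h1
      exact h1.symm
    have h2 : x ∈ N ⊓ Subgroup.center G := ⟨hx.1, hc⟩
    rwa [h] at h2

/-- A minimal normal subgroup of `G` inside a normal nilpotent subgroup is centralised by it. -/
theorem le_centralizer_minimal_normal {P M : Subgroup G} [P.Normal] [M.Normal]
    [Group.IsNilpotent P] (hMP : M ≤ P) (hM : M ≠ ⊥)
    (hmin : ∀ K : Subgroup G, K.Normal → K ≤ M → K = ⊥ ∨ K = M) :
    P ≤ Subgroup.centralizer (M : Set G) := by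
  have h2 : M.subgroupOf P ⊓ Subgroup.center P ≠ ⊥ := inf_center_ne_bot fun hb => hM (by
    rw [← Subgroup.map_subgroupOf_eq_of_le hMP, hb, Subgroup.map_bot])
  have h3 : M ⊓ (Subgroup.center P).map P.subtype = M := by
    refine (hmin _ inferInstance inf_le_left).resolve_left fun hb => h2 ?_
    refine le_bot_iff.1 fun x hx => Subgroup.mem_bot.2 (Subtype.ext ?_)
    have h4 : (x : G) ∈ M ⊓ (Subgroup.center P).map P.subtype := ⟨hx.1, x, hx.2, rfl⟩
    rwa [hb, Subgroup.mem_bot] at h4
  intro x hx m hm
  rw [← h3] at hm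
  obtain ⟨z, hz, rfl⟩ := hm.2
  exact (congrArg Subtype.val (Subgroup.mem_center_iff.1 hz ⟨x, hx⟩)).symm

end Cfsg.Agent.Cores
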