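import Cfsg.Agent.Lib.Cores.Basic
import Cfsg.Prelude.Def_Transfer

/-!
API for `pResidual p G` (= `O^p(G)`).
-/

set_option autoImplicit false

namespace Cfsg.Agent.Cores

open Cfsg

variable {G H : Type*} [Group G] [Group H]

theorem mem_pResidual_of_coprime {p : ℕ} {g : G} (h : (orderOf g).Coprime p) :
    g ∈ pResidual p G :=
  Subgroup.subset_closure h

theorem map_pResidual_le (f : G →* H) (p : ℕ) : (pResidual p G).map f ≤ pResidual p H := by
  rw [pResidual, MonoidHom.map_closure, Subgroup.closure_le]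
  rintro _ ⟨g, hg, rfl⟩
  exact mem_pResidual_of_coprime (hg.coprime_dvd_left (orderOf_map_dvd f g))

theorem map_pResidual_eq (e : G ≃* H) (p : ℕ) :
    (pResidual p G).map e.toMonoidHom = pResidual p H :=
  le_antisymm (map_pResidual_le _ p) fun x hx =>
    ⟨e.symm x, map_pResidual_le e.symm.toMonoidHom p ⟨x, hx, rfl⟩, e.apply_symm_apply x⟩

instance pResidual_characteristic (p : ℕ) : (pResidual p G).Characteristic :=
  Subgroup.characteristic_iff_map_le.2 fun φ => map_pResidual_le φ.toMonoidHom p

theorem pResidual_le_of_isPGroup_quotient {p : ℕ} [hp : Fact p.Prime] {N : Subgroup G} [N.Normal]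
    (h : IsPGroup p (G ⧸ N)) : pResidual p G ≤ N := by
  rw [pResidual, Subgroup.closure_le]
  intro g hg
  obtain ⟨k, hk⟩ := h (g : G ⧸ N)
  have h1 : orderOf (g : G ⧸ N) ∣ orderOf g := orderOf_map_dvd (QuotientGroup.mk' N) g
  have h2 : orderOf (g : G ⧸ N) ∣ p ^ k := orderOf_dvd_of_pow_eq_one hk
  have h3 : orderOf (g : G ⧸ N) = 1 :=
    Nat.eq_one_of_dvd_coprimes (Nat.Coprime.pow_right k hg) h1 h2
  exact (QuotientGroup.eq_one_iff g).1 (orderOf_eq_one_iff.1 h3)

theorem isPGroup_quotient_pResidual [Finite G] (p : ℕ) [hp : Fact p.Prime] :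
    IsPGroup p (G ⧸ pResidual p G) := by
  intro x
  induction x using QuotientGroup.induction_on with
  | H g =>
    obtain ⟨k, m, hm, hkm⟩ := Nat.exists_eq_pow_mul_and_not_dvd (orderOf_pos g).ne' p hp.out.ne_one
    refine ⟨k, ?_⟩
    rw [← QuotientGroup.mk_pow, QuotientGroup.eq_one_iff]
    refine mem_pResidual_of_coprime ?_
    have h0 : p ^ k ≠ 0 := pow_ne_zero k hp.out.pos.ne'
    rw [orderOf_pow' g h0, hkm, Nat.gcd_mul_right_left, Nat.mul_div_cancel_left _ (Nat.pos_of_ne_zero h0)]
    exact ((hp.out.coprime_iff_not_dvd).2 hm).symm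

theorem pResidual_le_iff [Finite G] {p : ℕ} [Fact p.Prime] {N : Subgroup G} [N.Normal] :
    pResidual p G ≤ N ↔ IsPGroup p (G ⧸ N) := by
  refine ⟨fun h => ?_, pResidual_le_of_isPGroup_quotient⟩
  exact (isPGroup_quotient_pResidual p).of_surjective
    (QuotientGroup.map (pResidual p G) N (MonoidHom.id G) (by simpa using h))
    (fun x => by
      induction x using QuotientGroup.induction_on with
      | H g => exact ⟨(g : G ⧸ pResidual p G), rfl⟩)

theorem pResidual_index [Finite G] (p : ℕ) [Fact p.Prime] :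
    ∃ n : ℕ, (pResidual p G).index = p ^ n :=
  IsPGroup.iff_card.1 (isPGroup_quotient_pResidual p)

theorem pResidual_eq_bot_iff [Finite G] (p : ℕ) [hp : Fact p.Prime] :
    pResidual p G = ⊥ ↔ IsPGroup p G := by
  constructor
  · intro h
    have h1 := isPGroup_quotient_pResidual (G := G) p
    obtain ⟨n, hn⟩ := IsPGroup.iff_card.1 h1
    refine IsPGroup.of_card (n := n) ?_
    rw [← hn, ← Subgroup.index_eq_card, h, Subgroup.index_bot]
  · intro h
    exact le_bot_iff.1 (pResidual_le_of_isPGroup_quotient (h.to_quotient ⊥))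

theorem map_pResidual_subtype_self (p : ℕ) :
    (pResidual p (pResidual p G)).map (pResidual p G).subtype = pResidual p G := by
  refine le_antisymm (Subgroup.map_subtype_le _) ?_
  conv_lhs => rw [pResidual]
  rw [Subgroup.closure_le]
  intro g hg
  exact ⟨⟨g, mem_pResidual_of_coprime hg⟩,
    mem_pResidual_of_coprime (by rw [← Subgroup.orderOf_coe]; exact hg), rfl⟩

theorem pResidual_idem (p : ℕ) : pResidual p (pResidual p G) = ⊤ := by
  rw [← (Subgroup.map_injective (pResidual p G).subtype_injective).eq_iff,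
    map_pResidual_subtype_self, ← MonoidHom.range_eq_map, Subgroup.range_subtype]

theorem map_pResidual_of_surjective [Finite G] {f : G →* H} (hf : Function.Surjective f)
    (p : ℕ) [Fact p.Prime] : (pResidual p G).map f = pResidual p H := by
  refine le_antisymm (map_pResidual_le f p) ?_
  haveI : ((pResidual p G).map f).Normal := Subgroup.Normal.map inferInstance f hf
  haveI : Finite H := Finite.of_surjective f hf
  rw [pResidual_le_iff]
  exact (isPGroup_quotient_pResidual p).of_surjective
    (QuotientGroup.map (pResidual p G) ((pResidual p G).map f) f (Subgroup.le_comap_map f _))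
    (fun x => by
      induction x using QuotientGroup.induction_on with
      | H g =>
        obtain ⟨g, rfl⟩ := hf g
        exact ⟨(g : G ⧸ pResidual p G), rfl⟩)

theorem pResidual_le_sylow_sup [Finite G] {p : ℕ} [Fact p.Prime] (P : Sylow p G) :
    (P : Subgroup G) ⊔ pResidual p G = ⊤ := by
  refine Subgroup.index_eq_one.1 (Nat.eq_one_of_dvd_coprimes (a := P.index) ?_
    (Subgroup.index_dvd_of_le le_sup_left) (Subgroup.index_dvd_of_le le_sup_right))
  obtain ⟨n, hn⟩ := pResidual_index (G := G) p
  rw [hn]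
  exact Nat.Coprime.pow_right n
    ((Fact.out : p.Prime).coprime_iff_not_dvd.2 P.not_dvd_index).symm

end Cfsg.Agent.Cores
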