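import Cfsg.Agent.Lib.Cores.Fitting

/-!
Subnormal p-, p'-, π- and nilpotent subgroups lie in the corresponding cores; the cores of a
subnormal subgroup are its intersections with the cores of the group.
-/

set_option autoImplicit false

namespace Cfsg.Agent.Cores

open Cfsg

variable {G : Type*} [Group G]

theorem map_subtype_subgroupOf {A K : Subgroup G} (h : A ≤ K) (X' : Subgroup (A.subgroupOf K))
    (X : Subgroup A) (he : X'.map (Subgroup.subgroupOfEquivOfLe h).toMonoidHom = X) :
    X.map A.subtype = (X'.map (A.subgroupOf K).subtype).map K.subtype := by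
  subst he
  rw [Subgroup.map_map, Subgroup.map_map]
  rfl

theorem map_pCore_le_of_isSubnormal [Finite G] (p : ℕ) {A : Subgroup G} (hA : A.IsSubnormal) :
    (pCore p A).map A.subtype ≤ pCore p G := by
  induction hA with
  | top => exact map_pCore_subtype_le p ⊤
  | step A K hAK _ hn ih =>
    haveI := hn
    rw [map_subtype_subgroupOf hAK _ _ (map_pCore_eq (Subgroup.subgroupOfEquivOfLe hAK) p)]
    exact (Subgroup.map_mono (map_pCore_subtype_le p (A.subgroupOf K))).trans ih

theorem map_piCore_le_of_isSubnormal [Finite G] (π : Set ℕ) {A : Subgroup G}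
    (hA : A.IsSubnormal) : (piCore π A).map A.subtype ≤ piCore π G := by
  induction hA with
  | top => exact map_piCore_subtype_le π ⊤
  | step A K hAK _ hn ih =>
    haveI := hn
    rw [map_subtype_subgroupOf hAK _ _ (map_piCore_eq (Subgroup.subgroupOfEquivOfLe hAK) π)]
    exact (Subgroup.map_mono (map_piCore_subtype_le π (A.subgroupOf K))).trans ih

theorem map_pPrimeCore_le_of_isSubnormal [Finite G] (p : ℕ) {A : Subgroup G}
    (hA : A.IsSubnormal) : (pPrimeCore p A).map A.subtype ≤ pPrimeCore p G := by
  induction hA with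
  | top => exact map_pPrimeCore_subtype_le p ⊤
  | step A K hAK _ hn ih =>
    haveI := hn
    rw [map_subtype_subgroupOf hAK _ _ (map_pPrimeCore_eq (Subgroup.subgroupOfEquivOfLe hAK) p)]
    exact (Subgroup.map_mono (map_pPrimeCore_subtype_le p (A.subgroupOf K))).trans ih

theorem map_fittingSubgroup_le_of_isSubnormal [Finite G] {A : Subgroup G} (hA : A.IsSubnormal) :
    (fittingSubgroup A).map A.subtype ≤ fittingSubgroup G := by
  induction hA with
  | top => exact map_fittingSubgroup_subtype_le ⊤
  | step A K hAK _ hn ih =>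
    haveI := hn
    rw [map_subtype_subgroupOf hAK _ _ (map_fittingSubgroup_eq (Subgroup.subgroupOfEquivOfLe hAK))]
    exact (Subgroup.map_mono (map_fittingSubgroup_subtype_le (A.subgroupOf K))).trans ih

theorem le_pCore_of_isSubnormal [Finite G] {p : ℕ} {A : Subgroup G} (hA : A.IsSubnormal)
    (h : IsPGroup p A) : A ≤ pCore p G := by
  have h1 := map_pCore_le_of_isSubnormal p hA
  rwa [(pCore_eq_top_iff p).2 h, ← MonoidHom.range_eq_map, Subgroup.range_subtype] at h1

theorem le_piCore_of_isSubnormal [Finite G] {π : Set ℕ} {A : Subgroup G} (hA : A.IsSubnormal)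
    (h : IsPi π A) : A ≤ piCore π G := by
  have h1 : (⊤ : Subgroup A) ≤ piCore π A := le_piCore (fun p hp hd => h p hp (by
    rwa [Subgroup.card_top] at hd))
  have h2 := map_piCore_le_of_isSubnormal π hA
  rwa [top_le_iff.1 h1, ← MonoidHom.range_eq_map, Subgroup.range_subtype] at h2

theorem le_pPrimeCore_of_isSubnormal [Finite G] {p : ℕ} {A : Subgroup G} (hA : A.IsSubnormal)
    (h : (Nat.card A).Coprime p) : A ≤ pPrimeCore p G := by
  have h1 : (⊤ : Subgroup A) ≤ pPrimeCore p A := le_pPrimeCore (by rwa [Subgroup.card_top])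
  have h2 := map_pPrimeCore_le_of_isSubnormal p hA
  rwa [top_le_iff.1 h1, ← MonoidHom.range_eq_map, Subgroup.range_subtype] at h2

theorem le_fittingSubgroup_of_isSubnormal [Finite G] {A : Subgroup G} (hA : A.IsSubnormal)
    (h : Group.IsNilpotent A) : A ≤ fittingSubgroup G := by
  have h1 := map_fittingSubgroup_le_of_isSubnormal hA
  rwa [fittingSubgroup_eq_top_iff.2 h, ← MonoidHom.range_eq_map, Subgroup.range_subtype] at h1

theorem le_oddCore_of_isSubnormal [Finite G] {A : Subgroup G} (hA : A.IsSubnormal)
    (h : Odd (Nat.card A)) : A ≤ oddCore G :=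
  le_pPrimeCore_of_isSubnormal hA (Nat.coprime_two_right.2 h)

theorem map_pCore_eq_inf_of_isSubnormal [Finite G] (p : ℕ) {A : Subgroup G}
    (hA : A.IsSubnormal) : (pCore p A).map A.subtype = pCore p G ⊓ A := by
  refine le_antisymm (le_inf (map_pCore_le_of_isSubnormal p hA) (Subgroup.map_subtype_le _)) ?_
  rw [← Subgroup.subgroupOf_map_subtype]
  exact Subgroup.map_mono (pCore_subgroupOf_le p A)

/-- The intersection of a Sylow subgroup with a subnormal subgroup is a Sylow subgroup of it. -/
theorem sylow_subgroupOf_isSubnormal [Finite G] {p : ℕ} [Fact p.Prime] (S : Sylow p G)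
    {A : Subgroup G} (hA : A.IsSubnormal) : ¬ p ∣ ((S : Subgroup G).subgroupOf A).index := by
  rw [← Subgroup.relIndex]
  induction hA with
  | top => simpa using S.not_dvd_index
  | step A K hAK _ hn ih =>
    haveI := hn
    obtain ⟨T, hT⟩ : ∃ T : Sylow p K, (T : Subgroup K) = (S : Subgroup G).subgroupOf K :=
      ⟨IsPGroup.toSylow (S.isPGroup'.comap_subtype) ih, rfl⟩
    have h1 : ¬ p ∣ ((T : Subgroup K).subgroupOf (A.subgroupOf K)).index := fun h =>
      T.not_dvd_index (h.trans (relIndex_dvd_index_right_normal _ _))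
    rw [← Subgroup.relIndex, hT, Subgroup.relIndex_subgroupOf hAK] at h1
    exact h1

end Cfsg.Agent.Cores
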