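import Mathlib
import Cfsg.Prelude.Def_KGroupFacts
import Cfsg.Agent.Lib.Suzuki.Eight.Corestriction

/-!
A stem extension from a central extension of a subgroup: the extension of the subgroup is transferred to the
group, and the commutator of the lifts of two commuting elements is a sum over the cosets, computed with any
lifts of their components.
-/

set_option autoImplicit false
set_option linter.unusedSectionVars false

namespace Cfsg.Agent.Lib.Cores.CentralTransfer

open Cfsg.Agent.Suzuki.Eight
open scoped commutatorElement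

variable {G : Type} [Group G] [Finite G] {A : Type} [AddCommGroup A] [Finite A] {X : Type} [Group X]

/-- The transferred extension. -/
theorem exists_stem (π : X →* G) (ι : Multiplicative A →* X) (hι : Function.Injective ι)
    (hker : π.ker = ι.range) (hcen : ∀ t y, ι t * y = y * ι t) (hperf : commutator G = ⊤)
    {m : ℕ} (R : Fin m → G) (hR : Function.Bijective fun i => (R i : G ⧸ π.range))
    (a b : G) (hab : a * b = b * a) (ja jb : Fin m → Fin m) (xa xb : Fin m → X)
    (ha : ∀ i, a * R i = R (ja i) * π (xa i)) (hb : ∀ i, b * R i = R (jb i) * π (xb i))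
    (d : Fin m → A) (hd : ∀ i, xa (jb i) * xb i = ι (Multiplicative.ofAdd (d i)) * (xb (ja i) * xa i))
    {z : A} (hz : z = ∑ i, d i) (hgen : AddSubgroup.zmultiples z = ⊤) :
    ∃ (Γ : Type) (_ : Group Γ) (_ : Finite Γ) (σ : Γ →* G),
      Cfsg.IsStemExtension σ ∧ Nonempty (σ.ker ≃* Multiplicative A) := by
  classical
  set U := π.range with hU
  -- a section and the cocycle
  let s : U → X := fun u => if u = 1 then 1 else u.2.choose
  have hs : ∀ u : U, π (s u) = u := fun u => by
    by_cases h : u = 1
    · simp [s, h]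
    · simp only [s, if_neg h]
      exact u.2.choose_spec
  have hs1 : s 1 = 1 := if_pos rfl
  have hlog : ∀ x : X, π x = 1 → ∃ t : A, ι (Multiplicative.ofAdd t) = x := by
    intro x hx
    have : x ∈ ι.range := hker ▸ hx
    obtain ⟨t, ht⟩ := this
    exact ⟨t.toAdd, ht⟩
  let lg : X → A := fun x => if h : π x = 1 then (hlog x h).choose else 0
  have hlg : ∀ x, π x = 1 → ι (Multiplicative.ofAdd (lg x)) = x := fun x h => by
    simp only [lg, dif_pos h]
    exact (hlog x h).choose_spec
  have hadd : ∀ t u : A, ι (Multiplicative.ofAdd (t + u)) = ι (Multiplicative.ofAdd t) * ι (Multiplicative.ofAdd u) :=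
    fun t u => by rw [ofAdd_add, map_mul]
  have hofinj : ∀ t u : A, ι (Multiplicative.ofAdd t) = ι (Multiplicative.ofAdd u) → t = u :=
    fun t u h => Multiplicative.ofAdd.injective (hι h)
  -- decomposition of the elements of `X`
  let u0 : X → U := fun x => ⟨π x, x, rfl⟩
  let α : X → A := fun x => lg (x * (s (u0 x))⁻¹)
  have hα : ∀ x, x = ι (Multiplicative.ofAdd (α x)) * s (u0 x) := fun x => by
    simp only [α]
    rw [hlg _ (by rw [map_mul, map_inv, hs]; exact mul_inv_cancel _), inv_mul_cancel_right]
  let F : U → U → A := fun u v => α (s u * s v)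
  have hu0 : ∀ u v : U, u0 (s u * s v) = u * v := fun u v =>
    Subtype.ext (by show π (s u * s v) = _; rw [map_mul, hs, hs, Subgroup.coe_mul])
  have hF : ∀ u v, s u * s v = ι (Multiplicative.ofAdd (F u v)) * s (u * v) := fun u v => by
    have h := hα (s u * s v)
    rwa [hu0] at h
  let f : Cocycle U A :=
    { toFun := F
      one_left := fun v => hofinj _ _ (by
        have h := hF 1 v
        rw [hs1, one_mul, one_mul] at h
        rw [ofAdd_zero, map_one]
        exact (mul_eq_right.1 h.symm))
      one_right := fun v => hofinj _ _ (by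
        have h := hF v 1
        rw [hs1, mul_one, mul_one] at h
        rw [ofAdd_zero, map_one]
        exact (mul_eq_right.1 h.symm))
      assoc := fun u v w => by
        have h1 : s u * s v * s w = ι (Multiplicative.ofAdd (F u v + F (u * v) w)) * s (u * v * w) := by
          rw [hF u v, mul_assoc, hF (u * v) w, hadd]
          simp only [mul_assoc]
        have h2 : s u * s v * s w = ι (Multiplicative.ofAdd (F v w + F u (v * w))) * s (u * v * w) := by
          rw [mul_assoc, hF v w, ← mul_assoc (s u), ← hcen, mul_assoc, hF u (v * w), hadd, mul_assoc,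
            mul_assoc u]
        exact hofinj _ _ (mul_right_cancel (h1.symm.trans h2)) }
  -- the cosets
  haveI : Fintype (G ⧸ U) := Fintype.ofFinite _
  let q : Fin m ≃ G ⧸ U := Equiv.ofBijective _ hR
  let r : G ⧸ U → G := fun x => R (q.symm x)
  have hr : ∀ x, (r x : G ⧸ U) = x := fun x => q.apply_symm_apply x
  have hq : ∀ (x : G) (jx : Fin m → Fin m) (xx : Fin m → X),
      (∀ i, x * R i = R (jx i) * π (xx i)) →
      ∀ i, x • q i = q (jx i) ∧ comp U r hr x (q i) = u0 (xx i) := by
    intro x jx xx hx i
    have h1 : x • q i = q (jx i) := by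
      show ((x * R i : G) : G ⧸ U) = _
      rw [hx, QuotientGroup.mk_mul_of_mem _ (show π (xx i) ∈ U from ⟨_, rfl⟩)]
      rfl
    refine ⟨h1, Subtype.ext ?_⟩
    show (r (x • q i))⁻¹ * (x * r (q i)) = _
    rw [h1]
    show (R (q.symm (q _)))⁻¹ * (x * R (q.symm (q i))) = _
    rw [q.symm_apply_apply, q.symm_apply_apply, hx, inv_mul_cancel_left]
  have hja : Function.Bijective ja := by
    have : ja = fun i => q.symm (a • q i) := funext fun i => by
      rw [(hq a ja xa ha i).1, q.symm_apply_apply]
    rw [this]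
    exact q.symm.bijective.comp ((MulAction.bijective a).comp q.bijective)
  have hjb : Function.Bijective jb := by
    have : jb = fun i => q.symm (b • q i) := funext fun i => by
      rw [(hq b jb xb hb i).1, q.symm_apply_apply]
    rw [this]
    exact q.symm.bijective.comp ((MulAction.bijective b).comp q.bijective)
  -- the extension
  set c := cores U f r hr with hc
  have hcc := ker_le_center c
  have key : ∀ i, α (xa (jb i)) + α (xb i) + F (u0 (xa (jb i))) (u0 (xb i)) =
      d i + (α (xb (ja i)) + α (xa i) + F (u0 (xb (ja i))) (u0 (xa i))) := by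
    intro i
    have hprod : ∀ x y : X, x * y = ι (Multiplicative.ofAdd (α x + α y + F (u0 x) (u0 y))) * s (u0 x * u0 y) := by
      intro x y
      conv_lhs => rw [hα x, hα y]
      rw [mul_assoc, ← mul_assoc (s (u0 x)), ← hcen, mul_assoc (ι _) (s (u0 x)), hF, hadd, hadd]
      simp only [mul_assoc]
    have hu : u0 (xa (jb i)) * u0 (xb i) = u0 (xb (ja i)) * u0 (xa i) := Subtype.ext (by
      show π (xa (jb i)) * π (xb i) = π (xb (ja i)) * π (xa i)
      rw [← map_mul, ← map_mul, hd, map_mul π (ι _),
        (MonoidHom.mem_ker.1 (hker ▸ ⟨_, rfl⟩ : ι (Multiplicative.ofAdd (d i)) ∈ π.ker)), one_mul])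
    have h := hd i
    rw [hprod (xa (jb i)), hprod (xb (ja i)), hu, ← mul_assoc, ← hadd] at h
    exact hofinj _ _ (mul_right_cancel h)
  have hval : c.toFun a b - c.toFun b a = z := by
    show ∑ x, _ - ∑ x, _ = _
    rw [← Finset.sum_sub_distrib, ← Equiv.sum_comp q, hz]
    have e : ∀ i, f.toFun (comp U r hr a (b • q i)) (comp U r hr b (q i)) -
        f.toFun (comp U r hr b (a • q i)) (comp U r hr a (q i)) =
        d i + ((α (xa i) - α (xa (jb i))) + (α (xb (ja i)) - α (xb i))) := by
      intro i
      obtain ⟨a1, a2⟩ := hq _ _ _ ha i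
      obtain ⟨b1, b2⟩ := hq _ _ _ hb i
      rw [b1, (hq _ _ _ ha (jb i)).2, b2, a1, (hq _ _ _ hb (ja i)).2, a2]
      show F _ _ - F _ _ = _
      linear_combination (norm := abel) key i
    rw [Finset.sum_congr rfl fun i _ => e i, Finset.sum_add_distrib, Finset.sum_add_distrib,
      Finset.sum_sub_distrib, Finset.sum_sub_distrib, hjb.sum_comp fun i => α (xa i),
      hja.sum_comp fun i => α (xb i)]
    abel
  set E' := commutator (Ext c)
  have hmap : E'.map (proj c) = ⊤ := by
    rw [show E' = ⁅(⊤ : Subgroup (Ext c)), ⊤⁆ from commutator_def _, Subgroup.map_commutator,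
      Subgroup.map_top_of_surjective _ (proj_surjective c), ← commutator_def, hperf]
  let K : AddSubgroup A :=
    { carrier := {t | (⟨t, 1⟩ : Ext c) ∈ E'}
      zero_mem' := by show (1 : Ext c) ∈ E'; exact one_mem _
      add_mem' := fun {s t} hs ht => by
        have := E'.mul_mem hs ht
        simpa [Ext.mul_def, c.one_left] using this
      neg_mem' := fun {s} hs => by
        have := E'.inv_mem hs
        simpa [Ext.inv_def, c.one_left, c.one_right] using this }
  have hK : ∀ t, (⟨t, 1⟩ : Ext c) ∈ E' := by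
    intro t
    have hzK : z ∈ K := by
      show (⟨z, 1⟩ : Ext c) ∈ E'
      rw [← hval, ← commutator_lift c hab,
        show ∀ s t : Ext c, s * t * (t * s)⁻¹ = ⁅s, t⁆ from fun s t => by
          rw [commutatorElement_def]; group]
      exact Subgroup.commutator_mem_commutator (Subgroup.mem_top _) (Subgroup.mem_top _)
    have : t ∈ K := (AddSubgroup.zmultiples_le.2 hzK) (hgen ▸ AddSubgroup.mem_top t)
    exact this
  let σ : E' →* G := (proj c).comp E'.subtype
  have hker : ∀ x : E', x ∈ σ.ker ↔ (x : Ext c) ∈ (proj c).ker := fun _ => Iff.rfl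
  refine ⟨E', inferInstance, inferInstance, σ, ⟨fun g => ?_, fun x hx => ?_, ?_⟩,
    ⟨MulEquiv.trans ?_ (kerEquiv c)⟩⟩
  · obtain ⟨x, hx, rfl⟩ := (hmap.ge (Subgroup.mem_top g) : g ∈ _)
    exact ⟨⟨x, hx⟩, rfl⟩
  · exact Subgroup.mem_center_iff.2 fun y =>
      Subtype.ext (Subgroup.mem_center_iff.1 (hcc ((hker x).1 hx)) y.1)
  · -- the derived group is perfect
    have hlift : ∀ x : Ext c, ∃ x' ∈ E', x'⁻¹ * x ∈ Subgroup.center (Ext c) := by
      intro x
      obtain ⟨x', hx', h⟩ := (hmap.ge (Subgroup.mem_top (proj c x)) : proj c x ∈ _)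
      exact ⟨x', hx', hcc (by rw [MonoidHom.mem_ker, map_mul, map_inv, h, inv_mul_cancel])⟩
    have hle : E' ≤ (commutator E').map E'.subtype := by
      rw [Subgroup.map_subtype_commutator]
      conv_lhs => rw [show E' = ⁅(⊤ : Subgroup (Ext c)), ⊤⁆ from commutator_def _]
      rw [Subgroup.commutator_le]
      intro s _ t _
      obtain ⟨s', hs', hsc⟩ := hlift s
      obtain ⟨t', ht', htc⟩ := hlift t
      have : ⁅s, t⁆ = ⁅s', t'⁆ := by
        have hs2 : s = s' * (s'⁻¹ * s) := by group
        have ht2 : t = t' * (t'⁻¹ * t) := by group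
        rw [hs2, ht2, commutatorElement_def, commutatorElement_def]
        have hsc' := Subgroup.mem_center_iff.1 hsc
        have htc' := Subgroup.mem_center_iff.1 htc
        set p := s'⁻¹ * s
        set o := t'⁻¹ * t
        calc s' * p * (t' * o) * (s' * p)⁻¹ * (t' * o)⁻¹
            = s' * (p * t') * (o * p⁻¹) * s'⁻¹ * o⁻¹ * t'⁻¹ := by group
          _ = s' * (t' * p) * (p⁻¹ * o) * s'⁻¹ * o⁻¹ * t'⁻¹ := by rw [← hsc' t', htc' p⁻¹]
          _ = s' * t' * (o * s'⁻¹) * o⁻¹ * t'⁻¹ := by group
          _ = s' * t' * (s'⁻¹ * o) * o⁻¹ * t'⁻¹ := by rw [← htc' s'⁻¹]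
          _ = _ := by group
      rw [this]
      exact Subgroup.commutator_mem_commutator hs' ht'
    intro x _
    obtain ⟨y, hy, hyx⟩ := hle x.2
    rwa [Subtype.ext hyx] at hy
  · exact
      { toFun := fun x => ⟨x.1.1, x.2⟩
        invFun := fun w => ⟨⟨w.1, by
          convert hK w.1.ker using 1
          exact Ext.ext' c rfl ((mem_ker_proj c).1 w.2)⟩, w.2⟩
        left_inv := fun _ => rfl
        right_inv := fun _ => rfl
        map_mul' := fun _ _ => rfl }

end Cfsg.Agent.Lib.Cores.CentralTransfer
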